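import Groth.Agent.DefAut.Rigid
import Groth.Agent.ArtFunLib.Small

/-!
# A derivation gives an automorphism of the trivial deformation over the dual numbers
-/

set_option autoImplicit false
set_option linter.unusedSectionVars false
universe u

open CategoryTheory CategoryTheory.Limits AlgebraicGeometry IsLocalRing ArtFun TopologicalSpace OmegaSh Opposite

namespace Groth.Agent.DefAut

variable {k : Type u} [Field k] {X : Scheme.{u}} {x : X ⟶ Spec (CommRingCat.of k)}

variable {A : Art k k} (ξ : DefSch X x A) (p : ξ.total ⟶ X) (ε : A) (hε : ε * ε = 0)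
variable (δ : Der x (Coh.structureModule X))

/-- The values of a derivation, as functions. -/
noncomputable def val (δ : Der x (Coh.structureModule X)) (U : X.Opens) : Γ(X, U) →+ Γ(X, U) :=
  (fnSect X U).comp (δ.app U)

theorem val_mul (U : X.Opens) (a b : Γ(X, U)) :
    val δ U (a * b) = a * val δ U b + b * val δ U a :=
  Groth.Agent.OmegaUniv.app_mul δ U a b

theorem val_res {U V : X.Opens} (e : V ≤ U) (s : Γ(X, U)) :
    val δ V (X.presheaf.map (homOfLE e).op s) = X.presheaf.map (homOfLE e).op (val δ U s) :=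
  Groth.Agent.OmegaUniv.app_map δ e s

theorem val_one (U : X.Opens) : val δ U 1 = 0 := by
  simpa using val_mul δ U 1 1

/-- The deformed pullback of functions. -/
noncomputable def pert (U : X.Opens) : Γ(X, U) →+* Γ(ξ.total, p ⁻¹ᵁ U) where
  toFun s := p.app U s + structHom ξ (p ⁻¹ᵁ U) ε * p.app U (val δ U s)
  map_one' := by rw [map_one, val_one, map_zero, mul_zero, add_zero]
  map_zero' := by rw [map_zero, map_zero, map_zero, mul_zero, add_zero]
  map_add' a b := by rw [map_add, map_add, map_add, mul_add]; ring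
  map_mul' a b := by
    have h2 : structHom ξ (p ⁻¹ᵁ U) ε * structHom ξ (p ⁻¹ᵁ U) ε = 0 := by rw [← map_mul, hε, map_zero]
    rw [map_mul, val_mul, map_add, map_mul, map_mul]
    linear_combination -(p.app U (val δ U a) * p.app U (val δ U b)) * h2

theorem pert_apply (U : X.Opens) (s : Γ(X, U)) :
    pert ξ p ε hε δ U s = p.app U s + structHom ξ (p ⁻¹ᵁ U) ε * p.app U (val δ U s) := rfl

/-- The morphism with the deformed pullback of functions. -/
noncomputable def pertHom : ξ.total ⟶ X :=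
  let c : X.presheaf ⟶ (TopCat.Presheaf.pushforward _ p.base).obj ξ.total.presheaf :=
    { app := fun U => CommRingCat.ofHom (pert ξ p ε hε δ U.unop)
      naturality := fun U V i => by
        ext s
        change pert ξ p ε hε δ V.unop (X.presheaf.map (homOfLE i.unop.le).op s) =
          ξ.total.presheaf.map (homOfLE (p.preimage_mono i.unop.le)).op (pert ξ p ε hε δ U.unop s)
        have hn : ∀ a, p.app V.unop (X.presheaf.map (homOfLE i.unop.le).op a) =
            ξ.total.presheaf.map (homOfLE (p.preimage_mono i.unop.le)).op (p.app U.unop a) :=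
          fun a => congr($(p.naturality (homOfLE i.unop.le).op) a)
        rw [pert_apply, pert_apply, val_res, hn, hn, map_add, map_mul, res_structHom] }
  let g : ξ.total.toPresheafedSpace.Hom X.toPresheafedSpace := ⟨p.base, c⟩
  { toHom := g
    prop := fun P => ⟨fun a ha => by
      obtain ⟨U, hP, s, rfl⟩ := X.presheaf.exists_germ_eq a
      have h1 : g.stalkMap P (X.presheaf.germ U (p.base P) hP s) =
          ξ.total.presheaf.germ (p ⁻¹ᵁ U) P hP (pert ξ p ε hε δ U s) :=
        congr($(PresheafedSpace.stalkMap_germ g U P hP) s)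
      change IsUnit (g.stalkMap P (X.presheaf.germ U (p.base P) hP s)) at ha
      rw [h1, pert_apply, map_add, map_mul] at ha
      have hn : IsNilpotent (ξ.total.presheaf.germ (p ⁻¹ᵁ U) P hP (structHom ξ (p ⁻¹ᵁ U) ε) *
          ξ.total.presheaf.germ (p ⁻¹ᵁ U) P hP (p.app U (val δ U s))) :=
        ⟨2, by rw [mul_pow, sq, ← map_mul, ← map_mul, hε, map_zero, map_zero, zero_mul]⟩
      have h2 := hn.neg.isUnit_add_left_of_commute ha (Commute.all _ _)
      rw [add_neg_cancel_right] at h2
      have h3 : p.stalkMap P (X.presheaf.germ U (p.base P) hP s) =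
          ξ.total.presheaf.germ (p ⁻¹ᵁ U) P hP (p.app U s) :=
        Scheme.Hom.germ_stalkMap_apply p U P hP s
      rw [← h3] at h2
      exact isUnit_of_map_unit (p.stalkMap P).hom _ h2⟩ }

theorem pertHom_app (U : X.Opens) (s : Γ(X, U)) :
    (pertHom ξ p ε hε δ).app U s = p.app U s + structHom ξ (p ⁻¹ᵁ U) ε * p.app U (val δ U s) := rfl

theorem i_comp_pertHom (hε0 : A.res ε = 0) (hip : ξ.i ≫ p = 𝟙 X) :
    ξ.i ≫ pertHom ξ p ε hε δ = 𝟙 X := by
  have hb : (ξ.i ≫ pertHom ξ p ε hε δ).base = (ξ.i ≫ p).base := rfl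
  rw [← hip]
  refine Scheme.Hom.ext hb fun U => ?_
  ext s
  have h0 : ξ.i.app (p ⁻¹ᵁ U) (structHom ξ (p ⁻¹ᵁ U) ε) = 0 := by
    rw [i_app_structHom, hε0, map_zero, map_zero, map_zero]
  change X.presheaf.map (eqToHom _).op (ξ.i.app (p ⁻¹ᵁ U) ((pertHom ξ p ε hε δ).app U s)) =
    ξ.i.app (p ⁻¹ᵁ U) (p.app U s)
  rw [pertHom_app, map_add, map_mul, h0, zero_mul, add_zero]
  exact congr($(X.presheaf.map_id _) _)

/-- The deformed projection has no other companion. -/
theorem comp_pertHom (hT : ξ.total ⟶ ξ.total) (h : hT ≫ p = pertHom ξ p ε hε δ) (hf : hT ≫ ξ.f = ξ.f)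
    (hb : ∀ P, hT P = P) (δ' : Der x (Coh.structureModule X)) (hδ : ∀ U s, val δ' U s = - val δ U s) :
    hT ≫ pertHom ξ p ε hε δ' = p := by
  have hbase : (hT ≫ pertHom ξ p ε hε δ').base = p.base := by
    ext P
    exact congrArg p (hb P)
  refine Scheme.Hom.ext hbase fun U => ?_
  ext s
  let W : ξ.total.Opens := p ⁻¹ᵁ U
  have e : W ≤ hT ⁻¹ᵁ W := fun P hP => show hT P ∈ W by rwa [hb]
  let ψ : Γ(ξ.total, W) →+* Γ(ξ.total, W) := (hT.appLE W W e).hom
  have hψp : ∀ b, ψ (p.app U b) = p.app U b + structHom ξ W ε * p.app U (val δ U b) := by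
    intro b
    have key : ∀ (j : ξ.total ⟶ X) (hj : j = pertHom ξ p ε hε δ) (w : W ≤ j ⁻¹ᵁ U),
        j.appLE U W w b = p.app U b + structHom ξ W ε * p.app U (val δ U b) := by
      rintro j rfl w
      refine Eq.trans ?_ (pertHom_app ξ p ε hε δ U b)
      exact congr($((Scheme.Hom.app_eq_appLE (pertHom ξ p ε hε δ) (U := U)).symm) b)
    refine Eq.trans ?_ (key _ h e)
    rw [← Scheme.Hom.appLE_comp_appLE hT p U W W le_rfl e, ConcreteCategory.comp_apply,
      ← Scheme.Hom.app_eq_appLE]
  have hψf : ψ (structHom ξ W ε) = structHom ξ W ε := by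
    have h : ξ.f.appTop ≫ ξ.total.presheaf.map (homOfLE (le_top : W ≤ ⊤)).op ≫ hT.appLE W W e =
        ξ.f.appTop ≫ ξ.total.presheaf.map (homOfLE (le_top : W ≤ ⊤)).op := by
      rw [Scheme.Hom.map_appLE]
      conv_rhs => rw [← hf, Scheme.Hom.comp_appTop, Category.assoc]
      rfl
    exact congr($h ((Scheme.ΓSpecIso (CommRingCat.of A)).inv ε))
  have hgoal : ψ ((pertHom ξ p ε hε δ').app U s) = p.app U s := by
    rw [pertHom_app, map_add, map_mul, hψp, hψf, hψp, hδ, map_neg]
    have h2 : structHom ξ W ε * structHom ξ W ε = 0 := by rw [← map_mul, hε, map_zero]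
    have h3 : val δ U (-val δ U s) = - val δ U (val δ U s) := map_neg _ _
    rw [h3, map_neg]
    linear_combination -(p.app U (val δ U (val δ U s))) * h2
  refine Eq.trans ?_ hgoal
  change ξ.total.presheaf.map (eqToHom _).op (hT.app W ((pertHom ξ p ε hε δ').app U s)) = ψ _
  rfl

/-- A nonzero derivation gives a nontrivial automorphism. -/
theorem val_eq_zero_of_rigid [Flat x]
    (h : ∀ (A : Art k k) (ξ : DefSch X x A) (e : ξ.Iso ξ), e.iso.hom = 𝟙 ξ.total)
    (U : X.Opens) (hU : IsAffineOpen U) (s : Γ(X, U)) : val δ U s = 0 := by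
  let η : DefSch X x (Art.dual k k) := DefSch.trivial X x inferInstance _
  let p : η.total ⟶ X := pullback.fst (DefSch.self X x inferInstance).f (Art.specMap (Art.ofBase _))
  have hip : η.i ≫ p = 𝟙 X := DefSch.baseChange_i_fst _ _
  let ε : Art.dual k k := DualNumber.eps
  have hε : ε * ε = 0 := DualNumber.eps_mul_eps
  have hε0 : (Art.dual k k).res ε = 0 := rfl
  let δ' : Der x (Coh.structureModule X) := Groth.Agent.OmegaUniv.mkDer (fun U s => -(δ.app U s))
    (fun U a b => by rw [map_add, neg_add])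
    (fun U a b => by rw [Groth.Agent.OmegaUniv.app_mul, neg_add, smul_neg, smul_neg])
    (fun U V i a => by rw [Groth.Agent.OmegaUniv.app_map, map_neg])
    (fun V c => by rw [Groth.Agent.OmegaUniv.app_app, neg_zero])
  have hδ' : ∀ U s, val δ' U s = - val δ U s := fun U s => rfl
  have hδ'' : ∀ U s, val δ U s = - val δ' U s := fun U s => (neg_neg (val δ U s)).symm
  have hpb : IsPullback p η.f x (Art.specMap (Art.ofBase (Art.dual k k))) := IsPullback.of_hasPullback _ _
  have hex : ∀ D : Der x (Coh.structureModule X), ∃ φ : η.total ⟶ η.total,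
      φ ≫ p = pertHom η p ε hε D ∧ φ ≫ η.f = η.f ∧ η.i ≫ φ = η.i ∧ ∀ P, φ P = P := by
    intro D
    have w : pertHom η p ε hε D ≫ x = η.f ≫ Art.specMap (Art.ofBase (Art.dual k k)) := by
      refine Eq.trans ?_ hpb.w
      have hb : (pertHom η p ε hε D ≫ x).base = (p ≫ x).base := rfl
      refine Scheme.Hom.ext hb fun V => ?_
      ext c
      change η.total.presheaf.map (eqToHom _).op ((pertHom η p ε hε D).app (x ⁻¹ᵁ V) (x.app V c)) =
        p.app (x ⁻¹ᵁ V) (x.app V c)
      rw [pertHom_app, show val D (x ⁻¹ᵁ V) (x.app V c) = 0 from Groth.Agent.OmegaUniv.app_app D V c,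
        map_zero, mul_zero, add_zero]
      exact congr($(η.total.presheaf.map_id _) _)
    let φ := hpb.lift (pertHom η p ε hε D) η.f w
    have h1 : φ ≫ p = pertHom η p ε hε D := hpb.lift_fst _ _ _
    have h2 : φ ≫ η.f = η.f := hpb.lift_snd _ _ _
    have h3 : η.i ≫ φ = η.i := hpb.hom_ext
      (by rw [Category.assoc, h1, i_comp_pertHom η p ε hε D hε0 hip, hip])
      (by rw [Category.assoc, h2])
    refine ⟨φ, h1, h2, h3, fun P => ?_⟩
    obtain ⟨q, rfl⟩ := surjective_i η P
    exact congr($h3 q)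
  obtain ⟨φ, hφp, hφf, hφi, hφb⟩ := hex δ
  obtain ⟨φ', hφp', hφf', -, hφb'⟩ := hex δ'
  let e : η.Iso η :=
    { iso :=
        { hom := φ
          inv := φ'
          hom_inv_id := hpb.hom_ext
            (by rw [Category.assoc, hφp', comp_pertHom η p ε hε δ φ hφp hφf hφb δ' hδ', Category.id_comp])
            (by rw [Category.assoc, hφf', hφf, Category.id_comp])
          inv_hom_id := hpb.hom_ext
            (by rw [Category.assoc, hφp, comp_pertHom η p ε hε δ' φ' hφp' hφf' hφb' δ hδ'', Category.id_comp])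
            (by rw [Category.assoc, hφf, hφf', Category.id_comp]) }
      hom_f := hφf
      i_hom := hφi }
  have hid : φ = 𝟙 η.total := h _ η e
  have hp : pertHom η p ε hε δ = p := by rw [← hφp, hid, Category.id_comp]
  have h0 : structHom η (p ⁻¹ᵁ U) ε * p.app U (val δ U s) = 0 := by
    have h' : ∀ (j : η.total ⟶ X) (hj : j = p) (hle : p ⁻¹ᵁ U ≤ j ⁻¹ᵁ U),
        j.appLE U (p ⁻¹ᵁ U) hle s = p.app U s := by
      intro j hj hle
      subst hj
      exact congr($((Scheme.Hom.app_eq_appLE p (U := U)).symm) s)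
    have h2 := h' _ hp (show p ⁻¹ᵁ U ≤ pertHom η p ε hε δ ⁻¹ᵁ U from le_rfl)
    have h3 : (pertHom η p ε hε δ).appLE U (p ⁻¹ᵁ U) le_rfl s = (pertHom η p ε hε δ).app U s :=
      congr($((Scheme.Hom.app_eq_appLE (pertHom η p ε hε δ) (U := U)).symm) s)
    rw [h3, pertHom_app] at h2
    exact add_left_cancel (h2.trans (add_zero _).symm)
  haveI : IsAffineHom p := MorphismProperty.of_isPullback hpb.flip inferInstance
  have hV : IsAffineOpen (p ⁻¹ᵁ U) := hU.preimage p
  obtain ⟨hfl, -, hk⟩ := chart η hV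
  have hεne : ε ∉ (⊥ : Ideal (Art.dual k k)) := fun hh =>
    one_ne_zero (congrArg (TrivSqZeroExt.snd (R := k) (M := k)) (Ideal.mem_bot.1 hh))
  have hmem := mem_map_of_mul_mem hfl hεne (r := p.app U (val δ U s))
    (by rw [h0]; exact zero_mem _)
  rw [← hk, RingHom.mem_ker] at hmem
  have key : ∀ (j : X ⟶ X) (hj : j = 𝟙 X) (w : U ≤ j ⁻¹ᵁ U) b, j.appLE U U w b = b := by
    rintro j rfl w b
    exact congr($(show (𝟙 X : X ⟶ X).appLE U U w = 𝟙 _ by
      rw [Scheme.Hom.appLE, Scheme.Hom.id_app]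
      exact (Category.id_comp _).trans (X.presheaf.map_id _)) b)
  have hle : U ≤ (η.i ≫ p) ⁻¹ᵁ U := le_of_eq (by rw [hip]; rfl)
  have h5 := key _ hip hle (val δ U s)
  rw [← h5, Scheme.Hom.appLE, ConcreteCategory.comp_apply, Scheme.Hom.comp_app]
  exact (congrArg (X.presheaf.map (homOfLE hle).op) hmem).trans (map_zero _)

end Groth.Agent.DefAut
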