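import Groth.Agent.DefAff.Scheme

/-!
# Deformations on affine charts
-/

set_option autoImplicit false
set_option linter.unusedSectionVars false
universe u

open CategoryTheory CategoryTheory.Limits AlgebraicGeometry IsLocalRing ArtFun TopologicalSpace

namespace Groth.Agent.DefAut

variable {Λ k : Type u} [CommRing Λ] [Field k] [Algebra Λ k]
variable {X : Scheme.{u}} {x : X ⟶ Spec (CommRingCat.of k)} {A : Art Λ k} (ξ : DefSch X x A)

instance : IsClosedImmersion ξ.i :=
  MorphismProperty.of_isPullback ξ.isPullback.flip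
    (IsClosedImmersion.spec_of_surjective _ A.res_surjective : IsClosedImmersion (Art.specRes A))

theorem surjective_i : Function.Surjective ξ.i :=
  (MorphismProperty.of_isPullback ξ.isPullback.flip
    (⟨DefAff.surjective_specRes A⟩ : Surjective (Art.specRes A)) : Surjective ξ.i).surj

/-- The structure map on sections. -/
noncomputable def structHom (V : ξ.total.Opens) : A →+* Γ(ξ.total, V) :=
  ((Scheme.ΓSpecIso (CommRingCat.of A)).inv ≫ ξ.f.appTop ≫
    ξ.total.presheaf.map (homOfLE (le_top : V ≤ ⊤)).op).hom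

theorem res_structHom {V V' : ξ.total.Opens} (h : V' ≤ V) (a : A) :
    ξ.total.presheaf.map (homOfLE h).op (structHom ξ V a) = structHom ξ V' a := by
  change ξ.total.presheaf.map (homOfLE h).op (ξ.total.presheaf.map (homOfLE (le_top : V ≤ ⊤)).op _) = _
  rw [← ConcreteCategory.comp_apply, ← Functor.map_comp]
  rfl

theorem i_app_structHom (V : ξ.total.Opens) (a : A) :
    ξ.i.app V (structHom ξ V a) =
      X.presheaf.map (homOfLE (le_top : ξ.i ⁻¹ᵁ V ≤ ⊤)).op
        (x.appTop ((Scheme.ΓSpecIso (CommRingCat.of k)).inv (A.res a))) := by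
  have h1 := congr(($(ξ.i.naturality (homOfLE (le_top : V ≤ ⊤)).op))
    (ξ.f.appTop ((Scheme.ΓSpecIso (CommRingCat.of A)).inv a)))
  refine h1.trans ?_
  change X.presheaf.map _ ((ξ.f.appTop ≫ ξ.i.appTop) ((Scheme.ΓSpecIso (CommRingCat.of A)).inv a)) = _
  rw [← Scheme.Hom.comp_appTop, ξ.isPullback.w, Scheme.Hom.comp_appTop]
  exact congrArg (fun z => X.presheaf.map (homOfLE (le_top : ξ.i ⁻¹ᵁ V ≤ ⊤)).op (x.appTop z))
    congr(($(Scheme.ΓSpecIso_inv_naturality (CommRingCat.ofHom A.res.toRingHom))) a).symm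

/-- The closed fibre on an affine chart. -/
theorem chart {V : ξ.total.Opens} (hV : IsAffineOpen V) :
    (structHom ξ V).Flat ∧ Function.Surjective (ξ.i.app V) ∧
      RingHom.ker (ξ.i.app V).hom = (maximalIdeal A).map (structHom ξ V) := by
  haveI : IsAffine (V : Scheme) := hV
  have hfl : (ξ.f.appTop ≫ ξ.total.presheaf.map (homOfLE (le_top : V ≤ ⊤)).op).hom.Flat :=
    ξ.f.flat_appLE (isAffineOpen_top (Spec (CommRingCat.of A))) hV le_top
  refine ⟨?_, ?_⟩
  · rw [structHom, CommRingCat.hom_comp]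
    exact (RingHom.Flat.of_bijective
      (Scheme.ΓSpecIso (CommRingCat.of A)).commRingCatIsoToRingEquiv.symm.bijective).comp hfl
  have hpb : IsPullback (ξ.i ∣_ V) ((ξ.i ⁻¹ᵁ V).ι ≫ x) (V.ι ≫ ξ.f) (Art.specRes A) :=
    (isPullback_morphismRestrict ξ.i V).paste_vert ξ.isPullback
  let g : Γ(Spec (CommRingCat.of A), ⊤) ⟶ Γ(Spec (CommRingCat.of k), ⊤) := (Art.specRes A).appTop
  let e := (Scheme.ΓSpecIso (CommRingCat.of A)).commRingCatIsoToRingEquiv
  let ek := (Scheme.ΓSpecIso (CommRingCat.of k)).commRingCatIsoToRingEquiv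
  have hg : ∀ a, ek (g a) = A.res (e a) := fun a =>
    congr(($(Scheme.ΓSpecIso_naturality (CommRingCat.ofHom A.res.toRingHom))) a)
  have hgs : Function.Surjective g := fun c => by
    obtain ⟨b, hb⟩ := A.res_surjective (ek c)
    obtain ⟨a, rfl⟩ := e.surjective b
    exact ⟨a, ek.injective ((hg a).trans hb)⟩
  obtain ⟨hs, hk⟩ := DefAff.surj_ker_of_isPushout (f := (V.ι ≫ ξ.f).appTop.hom) (g := g.hom)
    (l := (ξ.i ∣_ V).appTop.hom) (r := ((ξ.i ⁻¹ᵁ V).ι ≫ x).appTop.hom) hgs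
    (isPushout_appTop_of_isPullback hpb)
  let t := V.topIso.commRingCatIsoToRingEquiv
  let t' := (ξ.i ⁻¹ᵁ V).topIso.commRingCatIsoToRingEquiv
  have hsq : ∀ r, t' ((ξ.i ∣_ V).appTop r) = ξ.i.app V (t r) := by
    intro r
    have h : (ξ.i ∣_ V).appTop ≫ (ξ.i ⁻¹ᵁ V).topIso.hom = V.topIso.hom ≫ ξ.i.app V := by
      simp [-eqToHom_op, Scheme.Hom.app_eq_appLE, Scheme.Opens.topIso, Scheme.Hom.appLE_map, Scheme.Hom.map_appLE, Scheme.Hom.appLE_map', Scheme.Hom.map_appLE']
      exact (Scheme.Hom.appLE_map _ _ _).trans (Scheme.Hom.map_appLE _ _ _).symm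
    exact congr($h r)
  have htf : ∀ a, t ((V.ι ≫ ξ.f).appTop a) = structHom ξ V (e a) := by
    intro a
    have h : (V.ι ≫ ξ.f).appTop ≫ V.topIso.hom =
        ξ.f.appTop ≫ ξ.total.presheaf.map (homOfLE (le_top : V ≤ ⊤)).op := by
      simp [Scheme.Opens.topIso, Scheme.Hom.appTop, Scheme.Opens.ι_app, ← Functor.map_comp]
      congr 1
      exact (ξ.total.presheaf.map_comp _ _).symm.trans rfl
    refine (congr($h a)).trans ?_
    change _ = ξ.total.presheaf.map _ (ξ.f.appTop (e.symm (e a)))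
    rw [e.symm_apply_apply]
    rfl
  refine ⟨fun z => ?_, le_antisymm (fun z hz => ?_) (Ideal.map_le_iff_le_comap.2 fun a ha => ?_)⟩
  · obtain ⟨r, hr⟩ := hs (t'.symm z)
    refine ⟨t r, ?_⟩
    rw [← hsq]
    exact (congrArg t' hr).trans (t'.apply_symm_apply z)
  · obtain ⟨r, rfl⟩ := t.surjective z
    have hr : r ∈ RingHom.ker (ξ.i ∣_ V).appTop.hom :=
      t'.injective ((hsq r).trans (Eq.trans hz (map_zero t').symm))
    rw [hk] at hr
    have h2 := Ideal.mem_map_of_mem (t : Γ(V, ⊤) →+* Γ(ξ.total, V)) hr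
    rw [Ideal.map_map] at h2
    refine Ideal.map_le_iff_le_comap.2 (fun a ha => ?_) h2
    rw [Ideal.mem_comap, RingHom.comp_apply]
    change t ((V.ι ≫ ξ.f).appTop a) ∈ _
    rw [htf]
    refine Ideal.mem_map_of_mem _ ((Art.mem_maximalIdeal_iff A _).2 ?_)
    rw [← hg, show g a = 0 from ha, map_zero]
  · rw [Ideal.mem_comap, RingHom.mem_ker]
    refine (i_app_structHom ξ V a).trans ?_
    rw [(Art.mem_maximalIdeal_iff A a).1 ha, map_zero, map_zero, map_zero]

end Groth.Agent.DefAut
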