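import Groth.Agent.OmegaUniv.Deriv
import Groth.Agent.QCohLib.Sections

/-!
# Derivations of the structure sheaf from derivations on a basis
-/

set_option autoImplicit false
universe u

open CategoryTheory CategoryTheory.Limits AlgebraicGeometry TopologicalSpace Opposite OmegaSh

namespace Groth.Agent.DefAut

variable {X : Scheme.{u}}

theorem res_res {A B C : X.Opens} (h₁ : B ≤ A) (h₂ : C ≤ B) (s : Γ(X, A)) :
    X.presheaf.map (homOfLE h₂).op (X.presheaf.map (homOfLE h₁).op s) =
      X.presheaf.map (homOfLE (h₂.trans h₁)).op s := by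
  rw [← ConcreteCategory.comp_apply, ← Functor.map_comp]
  rfl

theorem eq_of_res_eq {ι : Type*} {W : ι → X.Opens} {U : X.Opens}
    (hW : ∀ p ∈ U, ∃ i, p ∈ W i ∧ W i ≤ U) {s t : Γ(X, U)}
    (h : ∀ i (hi : W i ≤ U), X.presheaf.map (homOfLE hi).op s = X.presheaf.map (homOfLE hi).op t) : s = t := by
  refine TopCat.Sheaf.eq_of_locally_eq' X.sheaf (fun i : {i // W i ≤ U} => W i.1) U (fun i => homOfLE i.2)
    (fun p hp => ?_) s t fun i => h i.1 i.2
  obtain ⟨i, hpi, hi⟩ := hW p hp
  exact Opens.mem_iSup.2 ⟨⟨i, hi⟩, hpi⟩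

theorem spec_field_eq_top {k : Type u} [Field k] {V : (Spec (CommRingCat.of k)).Opens} {q : Spec (CommRingCat.of k)}
    (hq : q ∈ V) : V = ⊤ :=
  top_le_iff.1 fun r _ => by rwa [show r = q from Subsingleton.elim (α := PrimeSpectrum k) r q]

variable {k : Type u} [Field k] (x : X ⟶ Spec (CommRingCat.of k))

/-- A derivation glued from derivations on a basis. -/
theorem exists_der {ι : Type u} (W : ι → X.Opens) (hW : ∀ (U : X.Opens) p, p ∈ U → ∃ i, p ∈ W i ∧ W i ≤ U)
    (D : ∀ i, Γ(X, W i) → Γ(X, W i))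
    (hadd : ∀ i a b, D i (a + b) = D i a + D i b)
    (hmul : ∀ i a b, D i (a * b) = a * D i b + b * D i a)
    (hres : ∀ i j (h : W j ≤ W i) a,
      D j (X.presheaf.map (homOfLE h).op a) = X.presheaf.map (homOfLE h).op (D i a))
    (hconst : ∀ i c, D i (X.presheaf.map (homOfLE (le_top : W i ≤ ⊤)).op (x.appTop c)) = 0) :
    ∃ δ : Der x (Coh.structureModule X), ∀ i a, fnSect X (W i) (δ.app (W i) a) = D i a := by
  have hex : ∀ (U : X.Opens) (s : Γ(X, U)), ∃ z : Γ(X, U), ∀ i (h : W i ≤ U),
      X.presheaf.map (homOfLE h).op z = D i (X.presheaf.map (homOfLE h).op s) := by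
    intro U s
    obtain ⟨z, hz, -⟩ := TopCat.Sheaf.existsUnique_gluing' X.sheaf (fun i : {i // W i ≤ U} => W i.1) U
      (fun i => homOfLE i.2) (fun p hp => by
        obtain ⟨i, hpi, hi⟩ := hW U p hp
        exact Opens.mem_iSup.2 ⟨⟨i, hi⟩, hpi⟩)
      (fun i => D i.1 (X.presheaf.map (homOfLE i.2).op s)) (fun i j => by
        refine eq_of_res_eq (W := W) (hW _) fun l hl => ?_
        change X.presheaf.map (homOfLE hl).op
            (X.presheaf.map (homOfLE inf_le_left).op (D i.1 (X.presheaf.map (homOfLE i.2).op s))) =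
          X.presheaf.map (homOfLE hl).op
            (X.presheaf.map (homOfLE inf_le_right).op (D j.1 (X.presheaf.map (homOfLE j.2).op s)))
        rw [res_res, res_res, ← hres i.1 l, ← hres j.1 l, res_res, res_res])
    exact ⟨z, fun i h => hz ⟨i, h⟩⟩
  choose z hz using hex
  have huniq : ∀ {U : X.Opens} {a b : Γ(X, U)}, (∀ i (h : W i ≤ U),
      X.presheaf.map (homOfLE h).op a = X.presheaf.map (homOfLE h).op b) → a = b :=
    fun {U} {a b} h => eq_of_res_eq (hW U) h
  let δ : Der x (Coh.structureModule X) := Groth.Agent.OmegaUniv.mkDer (fun U s => strSect X U (z U s))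
    (fun U a b => by
      rw [← map_add]
      refine congrArg _ (huniq fun i h => ?_)
      rw [map_add, hz, hz, hz, map_add, hadd])
    (fun U a b => by
      change z U (a * b) = a * z U b + b * z U a
      refine huniq fun i h => ?_
      rw [map_add, map_mul, map_mul, hz, hz, hz, map_mul, hmul])
    (fun U V e s => by
      change z V (X.presheaf.map (homOfLE e).op s) = X.presheaf.map (homOfLE e).op (z U s)
      refine huniq fun i h => ?_
      rw [hz, res_res, res_res, hz])
    (fun V c => by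
      change z (x ⁻¹ᵁ V) (x.app V c) = (0 : Γ(X, x ⁻¹ᵁ V))
      refine eq_of_res_eq (W := fun i : {i // (W i : Set X).Nonempty} => W i.1) (fun p hp => ?_) fun i h => ?_
      · obtain ⟨i, hpi, hi⟩ := hW _ p hp
        exact ⟨⟨i, ⟨p, hpi⟩⟩, hpi, hi⟩
      obtain ⟨p, hp⟩ := i.2
      obtain rfl : V = ⊤ := spec_field_eq_top (h hp)
      rw [hz, map_zero]
      exact hconst i.1 c)
  refine ⟨δ, fun i a => ?_⟩
  change z (W i) a = D i a
  have h := hz (W i) a i le_rfl
  rw [show (homOfLE (le_refl (W i))).op = 𝟙 (op (W i)) from rfl, X.presheaf.map_id] at h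
  exact h

end Groth.Agent.DefAut
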