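import Groth.Agent.DefAut.Chart
import Groth.Agent.DefAut.GlueDeriv
import Groth.Agent.RelLift.Obstruction
import Groth.Agent.ConormalSection.Universal

/-!
# Without derivations, deformations have no infinitesimal automorphisms
-/

set_option autoImplicit false
set_option linter.unusedSectionVars false
universe u

open CategoryTheory CategoryTheory.Limits AlgebraicGeometry IsLocalRing ArtFun TopologicalSpace OmegaSh

namespace Groth.Agent.DefAut

variable {Λ k : Type u} [CommRing Λ] [Field k] [Algebra Λ k]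

theorem mem_map_of_mul_mem {A : Art Λ k} {R : Type u} [CommRing R] {f : A →+* R} (hf : f.Flat) {t : A}
    {J : Ideal A} (ht : t ∉ J) {r : R} (h : f t * r ∈ J.map f) : r ∈ (maximalIdeal A).map f := by
  letI : Algebra A R := f.toAlgebra
  haveI : Module.Flat A R := hf
  haveI := Groth.Agent.TFun.free_of_flat (A := A) R
  let b := Module.Free.chooseBasis A R
  have hc : ∀ z ∈ J • (⊤ : Submodule A R), ∀ i, b.repr z i ∈ J := by
    intro z hz
    induction hz using Submodule.smul_induction_on' with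
    | smul c hc z _ =>
      intro i
      rw [map_smul, Finsupp.smul_apply, smul_eq_mul]
      exact Ideal.mul_mem_right _ _ hc
    | add a _ a' _ iha iha' =>
      intro i
      rw [map_add, Finsupp.add_apply]
      exact add_mem (iha i) (iha' i)
  have h' : t • r ∈ J • (⊤ : Submodule A R) := by
    rw [Ideal.smul_top_eq_map, Algebra.smul_def]
    exact h
  rw [← b.linearCombination_repr r, Finsupp.linearCombination_apply]
  refine Ideal.sum_mem _ fun i _ => ?_
  change b.repr r i • b i ∈ _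
  rw [Algebra.smul_def]
  refine Ideal.mul_mem_right _ _ (Ideal.mem_map_of_mem f ?_)
  by_contra hu
  have hu' : IsUnit (b.repr r i) := by
    simpa [IsLocalRing.mem_maximalIdeal, mem_nonunits_iff] using hu
  obtain ⟨v, hv⟩ := hu'.exists_left_inv
  apply ht
  have h3 := hc _ h' i
  rw [map_smul, Finsupp.smul_apply, smul_eq_mul] at h3
  have h4 := Ideal.mul_mem_right v J h3
  rwa [mul_assoc, mul_comm (b.repr r i), hv, mul_one] at h4

theorem exists_cover {A : Type u} [CommRing A] [IsArtinianRing A] [IsLocalRing A] {I : Ideal A} (hI : I ≠ ⊥) :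
    ∃ J : Ideal A, J < I ∧ maximalIdeal A * I ≤ J ∧ ∃ t ∈ I, t ∉ J ∧ I = J ⊔ Ideal.span {t} := by
  obtain ⟨J, hJ, hmax⟩ := WellFounded.has_min wellFounded_gt {J : Ideal A | J < I} ⟨⊥, bot_lt_iff_ne_bot.2 hI⟩
  replace hJ : J < I := hJ
  have hcov : ∀ K, J ≤ K → K ≤ I → K ≠ I → K = J := fun K h1 h2 h3 => by
    by_contra h
    exact hmax K (lt_of_le_of_ne h2 h3 : K < I) (lt_of_le_of_ne h1 (Ne.symm h) : J < K)
  have hmI : maximalIdeal A * I ≤ J := by
    by_contra h
    have h2 : J ⊔ maximalIdeal A * I = I := by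
      by_contra h3
      exact h (le_sup_right.trans (hcov _ le_sup_left (sup_le hJ.le (Ideal.mul_le.2 fun a _ b hb => I.mul_mem_left a hb)) h3).le)
    have h4 : I ≤ J ⊔ maximalIdeal A • I := by rw [smul_eq_mul]; exact h2.ge
    exact hJ.not_ge (Groth.Agent.RelLift.le_of_le_sup_smul (A := A) (M := A) (N := J) (L := I) h4)
  obtain ⟨t, htI, htJ⟩ := SetLike.exists_of_lt hJ
  refine ⟨J, hJ, hmI, t, htI, htJ, ?_⟩
  by_contra h
  exact htJ ((hcov _ le_sup_left (sup_le hJ.le ((Ideal.span_singleton_le_iff_mem _).2 htI)) (Ne.symm h)).le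
    (Ideal.mem_sup_right (Ideal.mem_span_singleton_self t)))

variable {X : Scheme.{u}} {x : X ⟶ Spec (CommRingCat.of k)}

theorem auto_eq_id
    (hD : ∀ (δ : Der x (Coh.structureModule X)) (U : X.Opens) s, δ.app U s = 0)
    {A : Art Λ k} (ξ : DefSch X x A) (e : ξ.Iso ξ) : e.iso.hom = 𝟙 ξ.total := by
  have hpt : ∀ P, e.iso.hom P = P := fun P => by
    obtain ⟨p, rfl⟩ := surjective_i ξ P
    exact congr($(e.i_hom) p)
  have hle : ∀ V : ξ.total.Opens, V ≤ e.iso.hom ⁻¹ᵁ V := fun V P hP => by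
    show e.iso.hom P ∈ V
    rwa [hpt]
  let φ : ∀ V : ξ.total.Opens, Γ(ξ.total, V) →+* Γ(ξ.total, V) := fun V =>
    (e.iso.hom.appLE V V (hle V)).hom
  have hres : ∀ {V V' : ξ.total.Opens} (h : V' ≤ V) r,
      φ V' (ξ.total.presheaf.map (homOfLE h).op r) = ξ.total.presheaf.map (homOfLE h).op (φ V r) := by
    intro V V' h r
    have h' : ξ.total.presheaf.map (homOfLE h).op ≫ e.iso.hom.appLE V' V' (hle V') =
        e.iso.hom.appLE V V (hle V) ≫ ξ.total.presheaf.map (homOfLE h).op :=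
      (Scheme.Hom.map_appLE _ _ _).trans (Scheme.Hom.appLE_map _ _ _).symm
    exact congr($h' r)
  have hfix : ∀ V a, φ V (structHom ξ V a) = structHom ξ V a := by
    intro V a
    have h : ξ.f.appTop ≫ ξ.total.presheaf.map (homOfLE (le_top : V ≤ ⊤)).op ≫ e.iso.hom.appLE V V (hle V) =
        ξ.f.appTop ≫ ξ.total.presheaf.map (homOfLE (le_top : V ≤ ⊤)).op := by
      rw [Scheme.Hom.map_appLE]
      conv_rhs => rw [← e.hom_f, Scheme.Hom.comp_appTop, Category.assoc]
      rfl
    exact congr($h ((Scheme.ΓSpecIso (CommRingCat.of A)).inv a))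
  have hq : ∀ V r, ξ.i.app V (φ V r) = ξ.i.app V r := by
    intro V r
    have h : e.iso.hom.appLE V V (hle V) ≫ ξ.i.app V = ξ.i.app V := by
      rw [Scheme.Hom.app_eq_appLE]
      rw [Scheme.Hom.appLE_comp_appLE]
      have key : ∀ (j : X ⟶ ξ.total) (hj : j = ξ.i) (w : ξ.i ⁻¹ᵁ V ≤ j ⁻¹ᵁ V),
          j.appLE V (ξ.i ⁻¹ᵁ V) w = ξ.i.appLE V (ξ.i ⁻¹ᵁ V) le_rfl := by
        rintro j rfl w; rfl
      exact key _ e.i_hom _
    exact congr($h r)
  -- the filtration
  let S : Set (Ideal A) := {I | I ≤ maximalIdeal A ∧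
    ∀ V, IsAffineOpen V → ∀ r, φ V r - r ∈ I.map (structHom ξ V)}
  have hm : maximalIdeal A ∈ S := ⟨le_rfl, fun V hV r => by
    rw [← (chart ξ hV).2.2, RingHom.mem_ker, map_sub]
    exact sub_eq_zero.2 (hq V r)⟩
  obtain ⟨I, hI, hmin⟩ := WellFounded.has_min (wellFounded_lt (α := Ideal A)) S ⟨_, hm⟩
  suffices h0 : I = ⊥ by
    refine Scheme.hom_ext_of_forall _ _ fun P => ?_
    obtain ⟨V, hV, hP, -⟩ := exists_isAffineOpen_mem_and_subset (x := P) (U := ⊤) trivial
    refine ⟨V, hP, ?_⟩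
    have h1 : e.iso.hom.appLE V V (hle V) = (𝟙 Γ(ξ.total, V)) := by
      ext r
      have h := hI.2 V hV r
      rw [h0, Ideal.map_bot, Ideal.mem_bot, sub_eq_zero] at h
      exact h
    have h2 := hV.SpecMap_appLE_fromSpec e.iso.hom hV (hle V)
    rw [h1, Spec.map_id, Category.id_comp] at h2
    rw [← hV.isoSpec_hom_fromSpec, Category.assoc, Category.assoc, Category.comp_id, ← h2]
  by_contra hne
  obtain ⟨J, hJI, hmI, t, htI, htJ, hIt⟩ := exists_cover hne
  refine hmin J ⟨hJI.le.trans hI.1, ?_⟩ hJI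
  have htm : t ∈ maximalIdeal A := hI.1 htI
  -- `m R * I R ⊆ J R`
  have hmul : ∀ V {a b : Γ(ξ.total, V)}, a ∈ (maximalIdeal A).map (structHom ξ V) →
      b ∈ I.map (structHom ξ V) → a * b ∈ J.map (structHom ξ V) := fun V {a b} ha hb =>
    Ideal.map_mono hmI ((Ideal.map_mul _ _ _).ge (Ideal.mul_mem_mul ha hb))
  have hker : ∀ V, IsAffineOpen V → ∀ r ∈ (maximalIdeal A).map (structHom ξ V),
      φ V r - r ∈ J.map (structHom ξ V) := by
    intro V hV r hr
    induction hr using Submodule.span_induction with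
    | mem z hz =>
      obtain ⟨c, -, rfl⟩ := hz
      rw [hfix, sub_self]
      exact zero_mem _
    | zero => rw [map_zero, sub_zero]; exact zero_mem _
    | add a b _ _ ha hb => rw [map_add, add_sub_add_comm]; exact add_mem ha hb
    | smul y z hz hz' =>
      rw [smul_eq_mul, map_mul,
        show φ V y * φ V z - y * z = φ V y * (φ V z - z) + z * (φ V y - y) by ring]
      exact add_mem (Ideal.mul_mem_left _ _ hz') (hmul V hz (hI.2 V hV y))
  let ι₀ := {V : ξ.total.Opens // IsAffineOpen V}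
  let Rel : ∀ (V : ι₀), Γ(X, ξ.i ⁻¹ᵁ V.1) → Γ(X, ξ.i ⁻¹ᵁ V.1) → Prop := fun V b c =>
    ∃ r s, ξ.i.app V.1 r = b ∧ ξ.i.app V.1 s = c ∧
      φ V.1 r - r - structHom ξ V.1 t * s ∈ J.map (structHom ξ V.1)
  have hex : ∀ V b, ∃ c, Rel V b c := by
    intro V b
    obtain ⟨r, rfl⟩ := (chart ξ V.2).2.1 b
    have h := hI.2 V.1 V.2 r
    rw [hIt, Ideal.map_sup, Ideal.map_span, Set.image_singleton] at h
    obtain ⟨j, hj, z, hz, hjz⟩ := Submodule.mem_sup.1 h
    obtain ⟨s, rfl⟩ := Ideal.mem_span_singleton'.1 hz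
    refine ⟨_, r, s, rfl, rfl, ?_⟩
    rw [← hjz, mul_comm s, add_sub_cancel_right]
    exact hj
  have huniq : ∀ V {b c c'}, Rel V b c → Rel V b c' → c = c' := by
    rintro V b c c' ⟨r, s, hr, rfl, h⟩ ⟨r', s', hr', rfl, h'⟩
    obtain ⟨hflat, -, hk⟩ := chart ξ V.2
    have hd : r - r' ∈ (maximalIdeal A).map (structHom ξ V.1) := by
      rw [← hk, RingHom.mem_ker, map_sub]
      exact sub_eq_zero.2 (hr.trans hr'.symm)
    have h3 := sub_mem (sub_mem (hker V.1 V.2 _ hd) h) (neg_mem h')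
    rw [show φ V.1 (r - r') - (r - r') - (φ V.1 r - r - structHom ξ V.1 t * s) -
        -(φ V.1 r' - r' - structHom ξ V.1 t * s') = structHom ξ V.1 t * (s - s') by
      rw [map_sub]; ring] at h3
    have h4 := mem_map_of_mul_mem hflat htJ h3
    rw [← hk, RingHom.mem_ker, map_sub, sub_eq_zero] at h4
    exact h4
  choose D hDrel using hex
  obtain ⟨δ, hδ⟩ := exists_der x (fun V : ι₀ => ξ.i ⁻¹ᵁ V.1) (fun U p hp => by
      obtain ⟨O, hO, hOU⟩ := ξ.i.isClosedEmbedding.isInducing.isOpen_iff.1 U.2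
      have hpO : ξ.i p ∈ (⟨O, hO⟩ : ξ.total.Opens) := show p ∈ ξ.i ⁻¹' O by rw [hOU]; exact hp
      obtain ⟨V, hV, hpV, hVO⟩ := exists_isAffineOpen_mem_and_subset hpO
      refine ⟨⟨V, hV⟩, hpV, fun q hq => ?_⟩
      change q ∈ (U : Set X)
      have h : q ∈ ξ.i ⁻¹' O := hVO hq
      rwa [hOU] at h) D
    (fun V a b => by
      obtain ⟨r, s, hr, hs, h⟩ := hDrel V a
      obtain ⟨r', s', hr', hs', h'⟩ := hDrel V b
      refine huniq V (hDrel V _) ⟨r + r', s + s', by rw [map_add, hr, hr'], by rw [map_add, hs, hs'], ?_⟩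
      convert add_mem h h' using 1
      rw [map_add]
      ring)
    (fun V a b => by
      obtain ⟨r, s, hr, hs, h⟩ := hDrel V a
      obtain ⟨r', s', hr', hs', h'⟩ := hDrel V b
      refine huniq V (hDrel V _) ⟨r * r', r * s' + r' * s,
        by rw [map_mul, hr, hr'], by rw [map_add, map_mul, map_mul, hr, hr', hs, hs'], ?_⟩
      have h3 := hmul V.1 (Ideal.mem_map_of_mem (structHom ξ V.1) htm) (Ideal.mul_mem_left _ s' (hI.2 V.1 V.2 r))
      convert add_mem (add_mem (Ideal.mul_mem_left _ (φ V.1 r) h') (Ideal.mul_mem_left _ r' h)) h3 using 1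
      rw [map_mul]
      ring)
    (fun V V' h a => by
      have hV' : V'.1 ≤ V.1 := fun P hP => by
        obtain ⟨p, rfl⟩ := surjective_i ξ P
        exact h hP
      obtain ⟨r, s, hr, hs, hrel⟩ := hDrel V a
      have hnat : ∀ y, ξ.i.app V'.1 (ξ.total.presheaf.map (homOfLE hV').op y) =
          X.presheaf.map (homOfLE h).op (ξ.i.app V.1 y) := fun y =>
        congr($(ξ.i.naturality (homOfLE hV').op) y)
      refine huniq V' (hDrel V' _) ⟨ξ.total.presheaf.map (homOfLE hV').op r,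
        ξ.total.presheaf.map (homOfLE hV').op s, by rw [hnat, hr], by rw [hnat, hs], ?_⟩
      have h2 := Ideal.mem_map_of_mem (ξ.total.presheaf.map (homOfLE hV').op).hom hrel
      rw [Ideal.map_map, show (ξ.total.presheaf.map (homOfLE hV').op).hom.comp (structHom ξ V.1) =
        structHom ξ V'.1 from RingHom.ext (res_structHom ξ hV')] at h2
      convert h2 using 1
      rw [map_sub, map_sub, map_mul, res_structHom, hres])
    (fun V c => by
      obtain ⟨c, rfl⟩ := (Scheme.ΓSpecIso (CommRingCat.of k)).commRingCatIsoToRingEquiv.symm.surjective c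
      obtain ⟨a, rfl⟩ := A.res_surjective c
      refine huniq V (hDrel V _) ⟨structHom ξ V.1 a, 0, i_app_structHom ξ V.1 a, map_zero _, ?_⟩
      rw [hfix, mul_zero, sub_self, sub_zero]
      exact zero_mem _)
  intro V hV r
  obtain ⟨r', s', hr', hs', h'⟩ := hDrel ⟨V, hV⟩ (ξ.i.app V r)
  rw [← hδ, hD, map_zero] at hs'
  have hd : r - r' ∈ (maximalIdeal A).map (structHom ξ V) := by
    rw [← (chart ξ hV).2.2, RingHom.mem_ker, map_sub]
    exact sub_eq_zero.2 hr'.symm
  have hs : structHom ξ V t * s' ∈ J.map (structHom ξ V) := by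
    rw [mul_comm]
    exact hmul V (by rw [← (chart ξ hV).2.2]; exact hs') (Ideal.mem_map_of_mem _ htI)
  convert add_mem (add_mem (hker V hV _ hd) h') hs using 1
  rw [map_sub]
  ring

end Groth.Agent.DefAut
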